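import Mathlib
import Groth.Prelude.Def_CycAlg

/-! # Periodic complexes: functoriality, the exact hexagon, two out of three -/

set_option autoImplicit false

universe u v

namespace PerHLib

open CycAlg

variable {R : Type u} [CommRing R]

section hexagon

variable {A B C : Type v} [AddCommGroup A] [Module R A] [AddCommGroup B] [Module R B]
  [AddCommGroup C] [Module R C]

theorem length_eq_range_add_range (a : A →ₗ[R] B) (b : B →ₗ[R] C) (h : Function.Exact a b) :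
    Module.length R B = Module.length R (LinearMap.range a) + Module.length R (LinearMap.range b) := by
  have e := Module.length_eq_add_of_exact (LinearMap.ker b).subtype b.rangeRestrict
    (Submodule.injective_subtype _) b.surjective_rangeRestrict
    (LinearMap.exact_iff.mpr (by rw [LinearMap.ker_rangeRestrict, Submodule.range_subtype]))
  rwa [LinearMap.exact_iff.mp h] at e

end hexagon

/-- The arithmetic of a hexagon: six ranks and the six lengths they give. -/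
theorem hexagon_arith {a₁ a₂ a₃ a₄ a₅ a₆ r₁ r₂ r₃ r₄ r₅ r₆ : ℕ∞}
    (e₁ : a₁ = r₆ + r₁) (e₂ : a₂ = r₁ + r₂) (e₃ : a₃ = r₂ + r₃) (e₄ : a₄ = r₃ + r₄)
    (e₅ : a₅ = r₄ + r₅) (e₆ : a₆ = r₅ + r₆)
    (h : (a₁ < ⊤ ∧ a₄ < ⊤ ∧ a₂ < ⊤ ∧ a₅ < ⊤) ∨ (a₁ < ⊤ ∧ a₄ < ⊤ ∧ a₃ < ⊤ ∧ a₆ < ⊤) ∨
      (a₂ < ⊤ ∧ a₅ < ⊤ ∧ a₃ < ⊤ ∧ a₆ < ⊤)) :
    (a₁ < ⊤ ∧ a₂ < ⊤ ∧ a₃ < ⊤ ∧ a₄ < ⊤ ∧ a₅ < ⊤ ∧ a₆ < ⊤) ∧
      (a₂.toNat : ℤ) - a₅.toNat = ((a₁.toNat : ℤ) - a₄.toNat) + ((a₃.toNat : ℤ) - a₆.toNat) := by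
  subst e₁ e₂ e₃ e₄ e₅ e₆
  simp only [ENat.add_lt_top] at h ⊢
  have hr : r₁ < ⊤ ∧ r₂ < ⊤ ∧ r₃ < ⊤ ∧ r₄ < ⊤ ∧ r₅ < ⊤ ∧ r₆ < ⊤ := by tauto
  obtain ⟨h1, h2, h3, h4, h5, h6⟩ := hr
  refine ⟨by tauto, ?_⟩
  rw [ENat.toNat_add h6.ne h1.ne, ENat.toNat_add h1.ne h2.ne, ENat.toNat_add h2.ne h3.ne,
    ENat.toNat_add h3.ne h4.ne, ENat.toNat_add h4.ne h5.ne, ENat.toNat_add h5.ne h6.ne]
  push_cast
  ring

section maps

variable {M N M' N' : Type v} [AddCommGroup M] [Module R M] [AddCommGroup N] [Module R N]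
  [AddCommGroup M'] [Module R M'] [AddCommGroup N'] [Module R N']

/-- The class of an element of `ker φ` in `perH φ ψ`. -/
abbrev cls (φ : M →ₗ[R] N) (ψ : N →ₗ[R] M) (x : M) (hx : φ x = 0) : perH φ ψ :=
  Submodule.Quotient.mk ⟨x, LinearMap.mem_ker.2 hx⟩

theorem cls_eq_zero_iff (φ : M →ₗ[R] N) (ψ : N →ₗ[R] M) (x : M) (hx : φ x = 0) :
    cls φ ψ x hx = 0 ↔ x ∈ LinearMap.range ψ := by
  rw [Submodule.Quotient.mk_eq_zero]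
  rfl

theorem cls_surj (φ : M →ₗ[R] N) (ψ : N →ₗ[R] M) (z : perH φ ψ) :
    ∃ x hx, z = cls φ ψ x hx := by
  obtain ⟨⟨x, hx⟩, rfl⟩ := Submodule.Quotient.mk_surjective _ z
  exact ⟨x, hx, rfl⟩

theorem cls_eq_cls (φ : M →ₗ[R] N) (ψ : N →ₗ[R] M) {x y : M} (hx : φ x = 0) (hy : φ y = 0) :
    cls φ ψ x hx = cls φ ψ y hy ↔ x - y ∈ LinearMap.range ψ := by
  rw [Submodule.Quotient.eq]
  rfl

/-- The map on cohomology induced by `f`. -/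
def hMap (φ : M →ₗ[R] N) (ψ : N →ₗ[R] M) (φ' : M' →ₗ[R] N') (ψ' : N' →ₗ[R] M') (f : M →ₗ[R] M')
    (hk : ∀ x, φ x = 0 → φ' (f x) = 0) (hr : ∀ y, f (ψ y) ∈ LinearMap.range ψ') :
    perH φ ψ →ₗ[R] perH φ' ψ' :=
  Submodule.mapQ _ _ (f.restrict (p := LinearMap.ker φ) (q := LinearMap.ker φ')
      fun x hx => LinearMap.mem_ker.2 (hk x (LinearMap.mem_ker.1 hx))) <| by
    rintro ⟨x, hx⟩ hxr
    obtain ⟨y, rfl⟩ : x ∈ LinearMap.range ψ := hxr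
    exact hr y

theorem hMap_cls (φ : M →ₗ[R] N) (ψ : N →ₗ[R] M) (φ' : M' →ₗ[R] N') (ψ' : N' →ₗ[R] M') (f : M →ₗ[R] M')
    (hk : ∀ x, φ x = 0 → φ' (f x) = 0) (hr : ∀ y, f (ψ y) ∈ LinearMap.range ψ') (x : M) (hx : φ x = 0) :
    hMap φ ψ φ' ψ' f hk hr (cls φ ψ x hx) = cls φ' ψ' (f x) (hk x hx) := rfl

end maps

section shortExact

variable {M₁ N₁ M₂ N₂ M₃ N₃ : Type v} [AddCommGroup M₁] [Module R M₁] [AddCommGroup N₁] [Module R N₁]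
  [AddCommGroup M₂] [Module R M₂] [AddCommGroup N₂] [Module R N₂] [AddCommGroup M₃] [Module R M₃]
  [AddCommGroup N₃] [Module R N₃]

/-- Half of the hexagon: exactness at three consecutive places. -/
theorem half (φ₁ : M₁ →ₗ[R] N₁) (ψ₁ : N₁ →ₗ[R] M₁) (φ₂ : M₂ →ₗ[R] N₂) (ψ₂ : N₂ →ₗ[R] M₂)
    (φ₃ : M₃ →ₗ[R] N₃) (ψ₃ : N₃ →ₗ[R] M₃) (f₁ : M₁ →ₗ[R] M₂) (g₁ : N₁ →ₗ[R] N₂) (f₂ : M₂ →ₗ[R] M₃)
    (g₂ : N₂ →ₗ[R] N₃) (cφ₁ : ∀ x, φ₂ (f₁ x) = g₁ (φ₁ x)) (cψ₁ : ∀ x, ψ₂ (g₁ x) = f₁ (ψ₁ x))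
    (cφ₂ : ∀ x, φ₃ (f₂ x) = g₂ (φ₂ x)) (cψ₂ : ∀ x, ψ₃ (g₂ x) = f₂ (ψ₂ x))
    (h₁ : ∀ x, φ₁ (ψ₁ x) = 0) (h₂ : ∀ x, ψ₂ (φ₂ x) = 0) (h₂' : ∀ x, φ₂ (ψ₂ x) = 0)
    (hf₁ : Function.Injective f₁) (hg₁ : Function.Injective g₁) (hf₂ : Function.Surjective f₂)
    (hg₂ : Function.Surjective g₂)
    (hM : Function.Exact f₁ f₂) (hN : Function.Exact g₁ g₂) :
    let a := hMap φ₁ ψ₁ φ₂ ψ₂ f₁ (fun x hx => by rw [cφ₁, hx, map_zero]) (fun y => ⟨g₁ y, cψ₁ y⟩)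
    let b := hMap φ₂ ψ₂ φ₃ ψ₃ f₂ (fun x hx => by rw [cφ₂, hx, map_zero]) (fun y => ⟨g₂ y, cψ₂ y⟩)
    let a' := hMap ψ₁ φ₁ ψ₂ φ₂ g₁ (fun x hx => by rw [cψ₁, hx, map_zero]) (fun y => ⟨f₁ y, cφ₁ y⟩)
    Function.Exact a b ∧
      Module.length R (perH φ₃ ψ₃) = Module.length R (LinearMap.range b) +
        Module.length R (LinearMap.ker a') := by
  intro a b a'
  refine ⟨?_, ?_⟩
  · intro z
    obtain ⟨x, hx, rfl⟩ := cls_surj φ₂ ψ₂ z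
    rw [hMap_cls, cls_eq_zero_iff]
    constructor
    · rintro ⟨n, hn⟩
      obtain ⟨n, rfl⟩ := hg₂ n
      rw [cψ₂] at hn
      obtain ⟨w, hw⟩ := (hM (x - ψ₂ n)).1 (by rw [map_sub, hn, sub_self])
      have hw0 : φ₁ w = 0 := hg₁ (by rw [← cφ₁, hw, map_sub, hx, h₂', sub_zero, map_zero])
      refine ⟨cls φ₁ ψ₁ w hw0, ?_⟩
      rw [hMap_cls, cls_eq_cls]
      exact ⟨-n, by rw [map_neg, hw]; abel⟩
    · rintro ⟨y, hy⟩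
      obtain ⟨w, hw, rfl⟩ := cls_surj φ₁ ψ₁ y
      rw [hMap_cls, cls_eq_cls] at hy
      obtain ⟨n, hn⟩ := hy
      refine ⟨-g₂ n, ?_⟩
      rw [map_neg, cψ₂, hn, map_sub, hM.apply_apply_eq_zero]
      abel
  · have e := Module.length_eq_add_of_exact (LinearMap.range b).subtype (LinearMap.range b).mkQ
      (Submodule.subtype_injective _) (Submodule.mkQ_surjective _) (LinearMap.exact_subtype_mkQ _)
    rw [e]
    congr 1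
    let P : Submodule R M₂ := LinearMap.ker (φ₃ ∘ₗ f₂)
    have hP : ∀ m : P, φ₂ (m : M₂) ∈ LinearMap.range g₁ := fun m =>
      (hN _).1 (by rw [← cφ₂]; exact LinearMap.mem_ker.1 m.2)
    let δ₀ : P →ₗ[R] N₁ := (LinearEquiv.ofInjective g₁ hg₁).symm.toLinearMap.comp
      ((φ₂ ∘ₗ P.subtype).codRestrict (LinearMap.range g₁) hP)
    have hδ₀ : ∀ m : P, g₁ (δ₀ m) = φ₂ m := fun m => by
      have := (LinearEquiv.ofInjective g₁ hg₁).apply_symm_apply ⟨φ₂ (m : M₂), hP m⟩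
      exact congrArg Subtype.val this
    have hδ₁ : ∀ m : P, ψ₁ (δ₀ m) = 0 := fun m => hf₁ (by rw [← cψ₁, hδ₀, h₂, map_zero])
    let δ : P →ₗ[R] perH ψ₁ φ₁ := (Submodule.mkQ _).comp
      (δ₀.codRestrict (LinearMap.ker ψ₁) fun m => LinearMap.mem_ker.2 (hδ₁ m))
    have hδ : ∀ m : P, δ m = cls ψ₁ φ₁ (δ₀ m) (hδ₁ m) := fun m => rfl
    let π : P →ₗ[R] perH φ₃ ψ₃ ⧸ LinearMap.range b := (LinearMap.range b).mkQ.comp ((Submodule.mkQ _).comp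
      ((f₂ ∘ₗ P.subtype).codRestrict (LinearMap.ker φ₃) fun m => m.2))
    have hπ : ∀ m : P, π m = Submodule.Quotient.mk (cls φ₃ ψ₃ (f₂ m) (LinearMap.mem_ker.1 m.2)) :=
      fun m => rfl
    have hπs : Function.Surjective π := by
      intro z
      obtain ⟨y, rfl⟩ := Submodule.Quotient.mk_surjective _ z
      obtain ⟨x, hx, rfl⟩ := cls_surj φ₃ ψ₃ y
      obtain ⟨m, rfl⟩ := hf₂ x
      exact ⟨⟨m, LinearMap.mem_ker.2 hx⟩, rfl⟩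
    have hrange : LinearMap.range δ = LinearMap.ker a' := by
      ext z
      obtain ⟨n, hn, rfl⟩ := cls_surj ψ₁ φ₁ z
      rw [LinearMap.mem_ker, hMap_cls, cls_eq_zero_iff]
      constructor
      · rintro ⟨m, hm⟩
        rw [hδ, cls_eq_cls] at hm
        obtain ⟨w, hw⟩ := hm
        refine ⟨(m : M₂) - f₁ w, ?_⟩
        rw [map_sub, ← hδ₀, cφ₁, hw, map_sub, sub_sub_cancel]
      · rintro ⟨m, hm⟩
        have hmP : m ∈ P := by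
          rw [LinearMap.mem_ker, LinearMap.comp_apply, cφ₂, hm, hN.apply_apply_eq_zero]
        refine ⟨⟨m, hmP⟩, ?_⟩
        rw [hδ, cls_eq_cls]
        refine ⟨0, ?_⟩
        rw [map_zero, eq_comm, sub_eq_zero]
        exact hg₁ (by rw [hδ₀, hm])
    have hker : LinearMap.ker δ = LinearMap.ker π := by
      ext m
      rw [LinearMap.mem_ker, LinearMap.mem_ker, hδ, cls_eq_zero_iff, hπ, Submodule.Quotient.mk_eq_zero]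
      constructor
      · rintro ⟨w, hw⟩
        have hx : φ₂ ((m : M₂) - f₁ w) = 0 := by rw [map_sub, cφ₁, hw, hδ₀, sub_self]
        refine ⟨cls φ₂ ψ₂ _ hx, ?_⟩
        rw [hMap_cls, cls_eq_cls]
        refine ⟨0, ?_⟩
        rw [map_zero, map_sub, hM.apply_apply_eq_zero, sub_zero, sub_self]
      · rintro ⟨y, hy⟩
        obtain ⟨x, hx, rfl⟩ := cls_surj φ₂ ψ₂ y
        rw [hMap_cls, cls_eq_cls] at hy
        obtain ⟨n, hn⟩ := hy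
        obtain ⟨n, rfl⟩ := hg₂ n
        rw [cψ₂] at hn
        obtain ⟨w, hw⟩ := (hM ((m : M₂) - x + ψ₂ n)).1 (by rw [map_add, map_sub, hn]; abel)
        refine ⟨w, hg₁ ?_⟩
        rw [hδ₀, ← cφ₁, hw, map_add, map_sub, hx, h₂', sub_zero, add_zero]
    rw [← hrange, ← (LinearMap.quotKerEquivRange δ).length_eq, ← (π.quotKerEquivOfSurjective hπs).length_eq,
      (Submodule.quotEquivOfEq _ _ hker).length_eq]

/-- Two out of three, and additivity of the Herbrand quotient. -/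
theorem two_of_three (φ₁ : M₁ →ₗ[R] N₁) (ψ₁ : N₁ →ₗ[R] M₁) (φ₂ : M₂ →ₗ[R] N₂) (ψ₂ : N₂ →ₗ[R] M₂)
    (φ₃ : M₃ →ₗ[R] N₃) (ψ₃ : N₃ →ₗ[R] M₃) (h₁ : IsPeriodic φ₁ ψ₁) (h₂ : IsPeriodic φ₂ ψ₂)
    (f₁ : M₁ →ₗ[R] M₂) (g₁ : N₁ →ₗ[R] N₂) (f₂ : M₂ →ₗ[R] M₃)
    (g₂ : N₂ →ₗ[R] N₃) (cφ₁ : φ₂ ∘ₗ f₁ = g₁ ∘ₗ φ₁) (cψ₁ : ψ₂ ∘ₗ g₁ = f₁ ∘ₗ ψ₁)
    (cφ₂ : φ₃ ∘ₗ f₂ = g₂ ∘ₗ φ₂) (cψ₂ : ψ₃ ∘ₗ g₂ = f₂ ∘ₗ ψ₂)
    (hf₁ : Function.Injective f₁) (hg₁ : Function.Injective g₁) (hf₂ : Function.Surjective f₂)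
    (hg₂ : Function.Surjective g₂)
    (hM : LinearMap.range f₁ = LinearMap.ker f₂) (hN : LinearMap.range g₁ = LinearMap.ker g₂)
    (htwo : (FinCoh R φ₁ ψ₁ ∧ FinCoh R φ₂ ψ₂) ∨ (FinCoh R φ₁ ψ₁ ∧ FinCoh R φ₃ ψ₃) ∨
      (FinCoh R φ₂ ψ₂ ∧ FinCoh R φ₃ ψ₃)) :
    FinCoh R φ₁ ψ₁ ∧ FinCoh R φ₂ ψ₂ ∧ FinCoh R φ₃ ψ₃ ∧
      herbrand R φ₂ ψ₂ = herbrand R φ₁ ψ₁ + herbrand R φ₃ ψ₃ := by
  have hEM : Function.Exact f₁ f₂ := LinearMap.exact_iff.mpr hM.symm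
  have hEN : Function.Exact g₁ g₂ := LinearMap.exact_iff.mpr hN.symm
  have c1 := LinearMap.congr_fun cφ₁
  have c2 := LinearMap.congr_fun cψ₁
  have c3 := LinearMap.congr_fun cφ₂
  have c4 := LinearMap.congr_fun cψ₂
  have d1 := LinearMap.congr_fun h₁.1
  have d1' := LinearMap.congr_fun h₁.2
  have d2 := LinearMap.congr_fun h₂.1
  have d2' := LinearMap.congr_fun h₂.2
  simp only [LinearMap.comp_apply, LinearMap.zero_apply] at c1 c2 c3 c4 d1 d1' d2 d2'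
  obtain ⟨hex, e3⟩ := half φ₁ ψ₁ φ₂ ψ₂ φ₃ ψ₃ f₁ g₁ f₂ g₂ c1 c2 c3 c4 d1 d2' d2 hf₁ hg₁ hf₂ hg₂ hEM hEN
  obtain ⟨hex', e6⟩ := half ψ₁ φ₁ ψ₂ φ₂ ψ₃ φ₃ g₁ f₁ g₂ f₂ c2 c1 c4 c3 d1' d2 d2' hg₁ hf₁ hg₂ hf₂ hEN hEM
  have e2 := length_eq_range_add_range _ _ hex
  have e5 := length_eq_range_add_range _ _ hex'
  have key : ∀ {P Q : Type v} [AddCommGroup P] [Module R P] [AddCommGroup Q] [Module R Q] (a : P →ₗ[R] Q),
      Module.length R P = Module.length R (LinearMap.ker a) + Module.length R (LinearMap.range a) :=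
    fun a => Module.length_eq_add_of_exact (LinearMap.ker a).subtype a.rangeRestrict
      (Submodule.injective_subtype _) a.surjective_rangeRestrict
      (LinearMap.exact_iff.mpr (by rw [LinearMap.ker_rangeRestrict, Submodule.range_subtype]))
  have := hexagon_arith (key _) e2 e3 (key _) e5 e6 (by
    rcases htwo with ⟨a, b⟩ | ⟨a, b⟩ | ⟨a, b⟩
    · exact Or.inl ⟨a.1, a.2, b.1, b.2⟩
    · exact Or.inr (Or.inl ⟨a.1, a.2, b.1, b.2⟩)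
    · exact Or.inr (Or.inr ⟨a.1, a.2, b.1, b.2⟩))
  obtain ⟨⟨f1, f2, f3, f4, f5, f6⟩, heq⟩ := this
  exact ⟨⟨f1, f4⟩, ⟨f2, f5⟩, ⟨f3, f6⟩, heq⟩

end shortExact

section dimZero

variable {M : Type v} [AddCommGroup M] [Module R M]

theorem herbrand_swap {N : Type v} [AddCommGroup N] [Module R N] (φ : M →ₗ[R] N) (ψ : N →ₗ[R] M) :
    herbrand R ψ φ = -herbrand R φ ψ := by
  simp [herbrand]

end dimZero

end PerHLib
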