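import Mathlib
import Groth.Agent.CycAlgLib.EndoQuot
import Groth.Agent.PerHLib.Basic

/-! # Finite length of modules killed by an element, and Herbrand quotients of `(I, 0, x)` -/

set_option autoImplicit false

universe u v

open Pointwise

namespace PerHLib

open CycAlg

variable {R : Type u} [CommRing R] [IsNoetherianRing R]
  {M : Type v} [AddCommGroup M] [Module R M]

omit [IsNoetherianRing R] in
/-- A module killed by `x` with support inside that of `M` has support inside that of `M ⧸ x M`. -/
theorem support_subset_of_killed [Module.Finite R M] {N : Type v} [AddCommGroup N] [Module R N] (x : R)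
    (hsub : Module.support R N ⊆ Module.support R M) (hx : ∀ z : N, x • z = 0) :
    Module.support R N ⊆ Module.support R (M ⧸ x • (⊤ : Submodule R M)) := by
  intro p hp
  have h : p ∈ Module.support R (QuotSMulTop x M) := by
    rw [Module.support_quotSMulTop]
    refine ⟨hsub hp, ?_⟩
    rw [PrimeSpectrum.mem_zeroLocus, Set.singleton_subset_iff]
    exact Module.annihilator_le_of_mem_support hp (Module.mem_annihilator.2 hx)
  exact h

/-- Such a finite module has finite length when `M ⧸ x M` has dimension `≤ 0`. -/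
theorem length_lt_top_of_killed [Module.Finite R M] {N : Type v} [AddCommGroup N] [Module R N]
    [Module.Finite R N] (x : R) (hx : Module.supportDim R (M ⧸ x • (⊤ : Submodule R M)) ≤ 0)
    (hsub : Module.support R N ⊆ Module.support R M) (hz : ∀ z : N, x • z = 0) :
    Module.length R N < ⊤ := by
  refine CycAlgLib.length_lt_top_of_supportDim_nonpos (le_trans ?_ hx)
  exact Order.krullDim_le_of_strictMono
    (fun p => (⟨p.1, support_subset_of_killed x hsub hz p.2⟩ : Module.support R (M ⧸ x • (⊤ : Submodule R M))))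
    (fun a b h => h)

/-- The complex `(N, 0, x)` has finite cohomology for `N` finite with support inside that of `M`. -/
theorem finCoh_zero_smul [Module.Finite R M] {N : Type v} [AddCommGroup N] [Module R N]
    [Module.Finite R N] (x : R) (hx : Module.supportDim R (M ⧸ x • (⊤ : Submodule R M)) ≤ 0)
    (hsub : Module.support R N ⊆ Module.support R M) :
    FinCoh R (0 : N →ₗ[R] N) (x • LinearMap.id) := by
  constructor
  · haveI : Module.Finite R (perH (0 : N →ₗ[R] N) (x • LinearMap.id)) := inferInstance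
    refine length_lt_top_of_killed (M := M) x hx ?_ fun z => ?_
    · exact ((Module.support_subset_of_surjective _ (Submodule.mkQ_surjective _)).trans
        (Module.support_subset_of_injective (LinearMap.ker (0 : N →ₗ[R] N)).subtype
          (Submodule.injective_subtype _))).trans hsub
    · obtain ⟨y, hy, rfl⟩ := cls_surj _ _ z
      rw [← Submodule.Quotient.mk_smul, Submodule.Quotient.mk_eq_zero]
      exact ⟨y, rfl⟩
  · haveI : Module.Finite R (perH (x • LinearMap.id) (0 : N →ₗ[R] N)) := inferInstance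
    refine length_lt_top_of_killed (M := M) x hx ?_ fun z => ?_
    · exact ((Module.support_subset_of_surjective _ (Submodule.mkQ_surjective _)).trans
        (Module.support_subset_of_injective (LinearMap.ker (x • LinearMap.id : N →ₗ[R] N)).subtype
          (Submodule.injective_subtype _))).trans hsub
    · obtain ⟨y, hy, rfl⟩ := cls_surj _ _ z
      rw [← Submodule.Quotient.mk_smul, Submodule.Quotient.mk_eq_zero]
      exact ⟨0, hy.symm⟩

/-- Multiplying one map of a periodic complex by `x`. -/
theorem smul_left_eq [Module.Finite R M] (φ ψ : M →ₗ[R] M) (hper : IsPeriodic φ ψ)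
    (hfin : FinCoh R φ ψ) (x : R) (hx : Module.supportDim R (M ⧸ x • (⊤ : Submodule R M)) ≤ 0) :
    FinCoh R (x • φ) ψ ∧ herbrand R (x • φ) ψ = herbrand R φ ψ -
      herbrand R (0 : ↥(LinearMap.range φ) →ₗ[R] ↥(LinearMap.range φ)) (x • LinearMap.id) := by
  let I := LinearMap.range φ
  haveI : IsNoetherian R M := isNoetherian_of_isNoetherianRing_of_finite R M
  haveI : Module.Finite R I := Module.IsNoetherian.finite R I
  obtain ⟨fa, fb⟩ := finCoh_zero_smul (M := M) x hx (N := I)
    (Module.support_subset_of_injective I.subtype (Submodule.injective_subtype _))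
  obtain ⟨fh, fh'⟩ := hfin
  have P1 : ∀ z, φ (ψ z) = 0 := LinearMap.congr_fun hper.1
  have P2 : ∀ z, ψ (φ z) = 0 := LinearMap.congr_fun hper.2
  have hxφ : ∀ z, (x • φ) z = x • φ z := fun z => rfl
  -- the zeroth cohomology
  let a := hMap φ ψ (x • φ) ψ LinearMap.id
    (fun z hz => by rw [LinearMap.id_apply, hxφ, hz, smul_zero]) (fun y => ⟨y, rfl⟩)
  let b := hMap (x • φ) ψ (x • LinearMap.id : I →ₗ[R] I) 0 φ.rangeRestrict
    (fun z hz => Subtype.ext (by simpa [hxφ] using hz))
    (fun y => ⟨0, by rw [map_zero]; exact Subtype.ext (P1 y).symm⟩)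
  have e0 : Module.length R (perH (x • φ) ψ) =
      Module.length R (perH φ ψ) + Module.length R (perH (x • LinearMap.id : I →ₗ[R] I) 0) := by
    refine Module.length_eq_add_of_exact a b ?_ ?_ ?_
    · rw [← LinearMap.ker_eq_bot, eq_bot_iff]
      intro z hz
      obtain ⟨y, hy, rfl⟩ := cls_surj _ _ z
      rw [LinearMap.mem_ker, hMap_cls, cls_eq_zero_iff] at hz
      rw [Submodule.mem_bot, cls_eq_zero_iff]
      exact hz
    · intro z
      obtain ⟨⟨_, y, rfl⟩, hy, rfl⟩ := cls_surj _ _ z
      have hy' : (x • φ) y = 0 := congrArg Subtype.val hy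
      exact ⟨cls _ _ y hy', rfl⟩
    · intro z
      obtain ⟨y, hy, rfl⟩ := cls_surj _ _ z
      rw [hMap_cls, cls_eq_zero_iff]
      constructor
      · rintro ⟨w, hw⟩
        have hy0 : φ y = 0 := by simpa using (congrArg Subtype.val hw).symm
        exact ⟨cls φ ψ y hy0, rfl⟩
      · rintro ⟨w, hw⟩
        obtain ⟨w, hw0, rfl⟩ := cls_surj _ _ w
        rw [hMap_cls, cls_eq_cls] at hw
        obtain ⟨v, hv⟩ := hw
        refine ⟨0, ?_⟩
        rw [map_zero]
        refine Subtype.ext ?_
        show 0 = φ y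
        have := congrArg φ hv
        rw [P1, map_sub, LinearMap.id_apply, hw0, zero_sub, eq_comm, neg_eq_zero] at this
        exact this.symm
  -- the first cohomology
  let c := hMap (0 : I →ₗ[R] I) (x • LinearMap.id) ψ (x • φ) I.subtype
    (fun z _ => by obtain ⟨_, y, rfl⟩ := z; exact P2 y)
    (fun z => by obtain ⟨_, y, rfl⟩ := z; exact ⟨y, rfl⟩)
  let d := hMap ψ (x • φ) ψ φ LinearMap.id (fun z hz => hz)
    (fun y => ⟨x • y, by rw [LinearMap.id_apply, map_smul, hxφ]⟩)
  have e1 : Module.length R (perH ψ (x • φ)) =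
      Module.length R (perH (0 : I →ₗ[R] I) (x • LinearMap.id)) + Module.length R (perH ψ φ) := by
    refine Module.length_eq_add_of_exact c d ?_ ?_ ?_
    · rw [← LinearMap.ker_eq_bot, eq_bot_iff]
      intro z hz
      obtain ⟨⟨_, y, rfl⟩, hy, rfl⟩ := cls_surj _ _ z
      rw [LinearMap.mem_ker, hMap_cls, cls_eq_zero_iff] at hz
      rw [Submodule.mem_bot, cls_eq_zero_iff]
      obtain ⟨w, hw⟩ := hz
      exact ⟨⟨φ w, w, rfl⟩, Subtype.ext hw⟩
    · intro z
      obtain ⟨y, hy, rfl⟩ := cls_surj _ _ z
      exact ⟨cls _ _ y hy, rfl⟩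
    · intro z
      obtain ⟨y, hy, rfl⟩ := cls_surj _ _ z
      rw [hMap_cls, cls_eq_zero_iff]
      constructor
      · intro hw
        exact ⟨cls _ _ (⟨y, hw⟩ : I) rfl, rfl⟩
      · rintro ⟨w, hw⟩
        obtain ⟨⟨w, hwI⟩, hw0, rfl⟩ := cls_surj _ _ w
        rw [hMap_cls, cls_eq_cls] at hw
        obtain ⟨v, hv⟩ := hw
        have hy' : y = w - (x • φ) v := by rw [hv]; simp
        rw [LinearMap.id_apply, hy', hxφ]
        exact sub_mem hwI (Submodule.smul_mem _ _ ⟨v, rfl⟩)
  refine ⟨⟨by rw [e0]; exact ENat.add_lt_top.2 ⟨fh, fb⟩, by rw [e1]; exact ENat.add_lt_top.2 ⟨fa, fh'⟩⟩, ?_⟩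
  simp only [herbrand, e0, e1, ENat.toNat_add fh.ne fb.ne, ENat.toNat_add fa.ne fh'.ne]
  push_cast
  ring

end PerHLib
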